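import Groth.Agent.Lib.FlatBC.Push
import Groth.Agent.Lib.FunMor20.Cover
import Groth.Agent.Lib.FunMor20.FMNat
import Groth.Agent.Lib.OX.PullbackFlat
import Groth.Agent.Lib.RDerLES.LES
import Groth.Agent.Lib.Cohom.PushDerived
import Mathlib.AlgebraicGeometry.Morphisms.Separated

/-!
# Flat base change of higher direct images along a separated morphism to an affine base
-/

set_option autoImplicit false
set_option linter.all false
set_option backward.isDefEq.respectTransparency false
set_option maxHeartbeats 1000000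

universe u v v' w w'

open CategoryTheory CategoryTheory.Limits AlgebraicGeometry Opposite TopologicalSpace

noncomputable section

namespace GrothLib.FlatBCRpush

section Generic

variable {C : Type w} [Category.{v} C] [Abelian C] [HasInjectiveResolutions C] {D : Type w'} [Category.{v'} D]
  [Abelian D] (F : C ⥤ D) [F.Additive] [PreservesFiniteLimits F] (Δ : RDer.DerivedLES F) {S : ShortComplex C}

include Δ in
theorem nonempty_one_iso (hS : S.ShortExact) (h : IsZero ((F.rightDerived 1).obj S.X₂)) :
    Nonempty ((F.rightDerived 1).obj S.X₁ ≅ cokernel (F.map S.g)) := by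
  have h1 := Δ.exact₁ S hS 0 1 rfl
  have h3 := Δ.exact₃ S hS 0 1 rfl
  haveI : Epi (Δ.δ S hS 0 1 rfl) := h1.epi_f (h.eq_of_tgt _ _)
  let e := (cokernelIsCokernel _).coconePointUniqueUpToIso h3.gIsCokernel
  have hn := F.toRightDerivedZero.naturality S.g
  exact ⟨e.symm ≪≫ (cokernel.mapIso (F.map S.g) ((F.rightDerived 0).map S.g)
    (asIso (F.toRightDerivedZero.app S.X₂)) (asIso (F.toRightDerivedZero.app S.X₃)) hn).symm⟩

include Δ in
theorem nonempty_succ_iso (hS : S.ShortExact) (n : ℕ) (h : IsZero ((F.rightDerived (n + 1)).obj S.X₂))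
    (h' : IsZero ((F.rightDerived (n + 2)).obj S.X₂)) :
    Nonempty ((F.rightDerived (n + 2)).obj S.X₁ ≅ (F.rightDerived (n + 1)).obj S.X₃) := by
  haveI : Epi (Δ.δ S hS (n + 1) (n + 2) rfl) :=
    (Δ.exact₁ S hS (n + 1) (n + 2) rfl).epi_f (h'.eq_of_tgt _ _)
  haveI : Mono (Δ.δ S hS (n + 1) (n + 2) rfl) :=
    (Δ.exact₃ S hS (n + 1) (n + 2) rfl).mono_g (h.eq_of_src _ _)
  haveI : IsIso (Δ.δ S hS (n + 1) (n + 2) rfl) := isIso_of_mono_of_epi _
  exact ⟨(asIso (Δ.δ S hS (n + 1) (n + 2) rfl)).symm⟩

end Generic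

theorem preservesFiniteLimits_pushforward {X S : Scheme.{u}} (f : X ⟶ S) :
    PreservesFiniteLimits (Scheme.Modules.pushforward f) := by
  have : PreservesLimitsOfSize.{0, 0} (Scheme.Modules.pushforward f) :=
    (Scheme.Modules.pullbackPushforwardAdjunction f).rightAdjoint_preservesLimits
  exact PreservesLimitsOfSize.preservesFiniteLimits.{0, 0} _

/-- **Flat base change of higher direct images**, for a separated morphism to an affine base. -/
theorem nonempty_iso {X S X' S' : Scheme.{u}} (f : X ⟶ S) (g : S' ⟶ S) (g' : X' ⟶ X) (f' : X' ⟶ S')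
    (h : IsPullback g' f' f g) [IsAffine S] [QuasiCompact f] [IsSeparated f] [Flat g]
    [HasInjectiveResolutions X.Modules] [HasInjectiveResolutions X'.Modules] :
    ∀ (i : ℕ) (M : X.Modules), M.IsQuasicoherent →
      Nonempty ((Scheme.Modules.pullback g).obj ((Coh.Rpush f i).obj M) ≅
        (Coh.Rpush f' i).obj ((Scheme.Modules.pullback g').obj M)) := by
  haveI := preservesFiniteLimits_pushforward f
  haveI := preservesFiniteLimits_pushforward f'
  haveI : QuasiCompact f' := MorphismProperty.of_isPullback (P := @QuasiCompact) h ‹_›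
  haveI : IsSeparated f' := MorphismProperty.of_isPullback (P := @IsSeparated) h ‹_›
  haveI : Flat g' := MorphismProperty.of_isPullback (P := @Flat) h.flip ‹_›
  haveI := OX.preservesFiniteLimits_pullback_of_flat g'
  haveI := OX.additive_pullback g'
  haveI : CompactSpace X := QuasiCompact.compactSpace_of_compactSpace f
  obtain ⟨U, hU, j, hj, hmono⟩ := FunMor20.exists_affine_cover f
  haveI : IsAffineHom (j ≫ f) := isAffineHom_of_isAffine _
  have sq := (IsPullback.of_hasPullback g' j).flip
  let j' : pullback g' j ⟶ X' := pullback.fst g' j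
  let g'' : pullback g' j ⟶ U := pullback.snd g' j
  haveI : IsAffineHom j' := MorphismProperty.of_isPullback (P := @IsAffineHom) sq hj
  haveI : IsAffineHom (j' ≫ f') :=
    MorphismProperty.of_isPullback (P := @IsAffineHom) (sq.paste_vert h) inferInstance
  -- the short exact sequence
  have key : ∀ M : X.Modules, M.IsQuasicoherent → ∃ (T : ShortComplex X.Modules) (_ : T.ShortExact),
      T.X₁ = M ∧ T.X₂.IsQuasicoherent ∧ T.X₃.IsQuasicoherent ∧
      (∀ n, IsZero ((Coh.Rpush f (n + 1)).obj T.X₂)) ∧
      (∀ n, IsZero ((Coh.Rpush f' (n + 1)).obj ((Scheme.Modules.pullback g').obj T.X₂))) := by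
    intro M hM
    haveI := hM
    haveI := hmono M
    let N := (Scheme.Modules.pullback j).obj M
    haveI : N.IsQuasicoherent := FittSheaf.isQuasicoherent_pullback j M
    haveI : ((Scheme.Modules.pushforward j).obj N).IsQuasicoherent := QCoh.isQuasicoherent_pushforward j N
    let η := (Scheme.Modules.pullbackPushforwardAdjunction j).unit.app M
    let T : ShortComplex X.Modules := ShortComplex.mk η (cokernel.π η) (cokernel.condition η)
    have hT : T.ShortExact :=
      { exact := ShortComplex.exact_of_g_is_cokernel T (cokernelIsCokernel η)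
        mono_f := hmono M
        epi_g := inferInstanceAs (Epi (cokernel.π η)) }
    refine ⟨T, hT, rfl, inferInstanceAs ((Scheme.Modules.pushforward j).obj N).IsQuasicoherent, ?_,
      fun n => Cohom.isZero_Rpush_of_acyclicOn f _ (Cohom.acyclicOn_pushforward j f N) n, fun n => ?_⟩
    · exact (SheafOfModules.isQuasicoherent X.ringCatSheaf).prop_of_iso (Iso.refl (cokernel η))
        (@QCoh.isQuasicoherent_cokernel _ M ((Scheme.Modules.pushforward j).obj N) hM _ η)
    · haveI : ((Scheme.Modules.pullback g'').obj N).IsQuasicoherent := FittSheaf.isQuasicoherent_pullback g'' N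
      haveI := AffBC.isIso_bcMap sq N
      refine (Cohom.isZero_Rpush_of_acyclicOn f' _
        (Cohom.acyclicOn_pushforward j' f' ((Scheme.Modules.pullback g'').obj N)) n).of_iso
          ((Coh.Rpush f' (n + 1)).mapIso (asIso (AffBC.bcMap sq N)))
  have hz : ∀ M : X.Modules, M.IsQuasicoherent → IsIso (AffBC.bcMap h M) := fun M hM =>
    haveI := hM
    FlatBC.isIso_bcMap h M
  obtain ⟨Δ⟩ := RDerLES.nonempty_derivedLES (F := Scheme.Modules.pushforward f)
  obtain ⟨Δ'⟩ := RDerLES.nonempty_derivedLES (F := Scheme.Modules.pushforward f')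
  intro i
  induction i using Nat.strong_induction_on with
  | _ i ih =>
    intro M hM
    match i with
    | 0 =>
      haveI := hz M hM
      exact ⟨(Scheme.Modules.pullback g).mapIso (asIso ((Scheme.Modules.pushforward f).toRightDerivedZero.app M)).symm ≪≫
        asIso (AffBC.bcMap h M) ≪≫ asIso ((Scheme.Modules.pushforward f').toRightDerivedZero.app _)⟩
    | 1 =>
      obtain ⟨T, hT, rfl, h2, h3, ha, ha'⟩ := key M hM
      obtain ⟨e⟩ := nonempty_one_iso _ Δ hT (ha 0)
      obtain ⟨e'⟩ := nonempty_one_iso _ Δ' (hT.map_of_exact (Scheme.Modules.pullback g')) (ha' 0)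
      haveI := OX.additive_pullback g
      haveI := hz _ h2
      haveI := hz _ h3
      haveI : (Scheme.Modules.pullback g).IsLeftAdjoint := (Scheme.Modules.pullbackPushforwardAdjunction g).isLeftAdjoint
      exact ⟨(Scheme.Modules.pullback g).mapIso e ≪≫ PreservesCokernel.iso _ _ ≪≫
        cokernel.mapIso _ _ (asIso (AffBC.bcMap h T.X₂)) (asIso (AffBC.bcMap h T.X₃))
          (FunMor20.bcMap_natural h T.g) ≪≫ e'.symm⟩
    | n + 2 =>
      obtain ⟨T, hT, rfl, h2, h3, ha, ha'⟩ := key M hM
      obtain ⟨e⟩ := nonempty_succ_iso _ Δ hT n (ha n) (ha (n + 1))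
      obtain ⟨e'⟩ := nonempty_succ_iso _ Δ' (hT.map_of_exact (Scheme.Modules.pullback g')) n (ha' n) (ha' (n + 1))
      obtain ⟨c⟩ := ih (n + 1) (by omega) T.X₃ h3
      exact ⟨(Scheme.Modules.pullback g).mapIso e ≪≫ c ≪≫ e'.symm⟩

end GrothLib.FlatBCRpush
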